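import Groth.Agent.Grpsch.Points
import Groth.Agent.Flat2D.FlatAtPt
import Groth.Agent.Sga3C.QuotQFAt

/-!
# Arrows with target in a slice: the morphism `sig u : R ×_{t,U} Z ⟶ U`

For a groupoid scheme `G = (U, R, s, t, c)` and `u : Z ⟶ U`, `sig G u : R ×_{t,U} Z ⟶ U` is the source
morphism `(r, z) ↦ s r` on the arrows with target in `Z`.  The two base changes of `sig G u` along
`s` and `t` coincide; hence pointwise properties of `sig G u` which are invariant under flat base
change can be checked at the points `(e (u z), z)`.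
-/

set_option autoImplicit false
universe u

open CategoryTheory CategoryTheory.Limits AlgebraicGeometry

namespace Groth.Agent.GrpQ.H769.Sig

open Groth.Agent.Grpsch.Points

variable {S : Scheme.{u}} (G : Grpd.GroupoidScheme S) {Z : Scheme.{u}} (u : Z ⟶ G.U)

/-- arrows with target in `Z` -/
noncomputable abbrev arr : Scheme.{u} := pullback G.t u

/-- the source of an arrow with target in `Z` -/
noncomputable def sig : arr G u ⟶ G.U := pullback.fst G.t u ≫ G.s

/-- `z ↦ (e (u z), z)` -/
noncomputable def sec : Z ⟶ arr G u :=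
  pullback.lift (u ≫ G.e) (𝟙 Z) (by rw [Category.assoc, G.e_t, Category.comp_id, Category.id_comp])

@[reassoc (attr := simp)]
lemma sec_fst : sec G u ≫ pullback.fst G.t u = u ≫ G.e := pullback.lift_fst _ _ _

@[reassoc (attr := simp)]
lemma sec_snd : sec G u ≫ pullback.snd G.t u = 𝟙 Z := pullback.lift_snd _ _ _

@[reassoc (attr := simp)]
lemma sec_sig : sec G u ≫ sig G u = u := by
  rw [sig, sec_fst_assoc, G.e_s, Category.comp_id]

lemma trans_aux : (pullback.fst (sig G u) G.t ≫ pullback.fst G.t u) ≫ G.s =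
    pullback.snd (sig G u) G.t ≫ G.t := by
  rw [Category.assoc, ← pullback.condition]
  rfl

/-- `((r, z), g) ↦ (r ∘ g, z)` -/
noncomputable def trans : pullback (sig G u) G.t ⟶ arr G u :=
  pullback.lift (mul G (pullback.fst (sig G u) G.t ≫ pullback.fst G.t u)
    (pullback.snd (sig G u) G.t) (trans_aux G u)) (pullback.fst (sig G u) G.t ≫ pullback.snd G.t u)
    (by rw [mul_t, Category.assoc, pullback.condition, Category.assoc])

@[reassoc (attr := simp)]
lemma trans_fst : trans G u ≫ pullback.fst G.t u =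
    mul G (pullback.fst (sig G u) G.t ≫ pullback.fst G.t u) (pullback.snd (sig G u) G.t)
      (trans_aux G u) := pullback.lift_fst _ _ _

@[reassoc (attr := simp)]
lemma trans_snd : trans G u ≫ pullback.snd G.t u =
    pullback.fst (sig G u) G.t ≫ pullback.snd G.t u := pullback.lift_snd _ _ _

lemma isPullback_fst : IsPullback (pullback.fst (sig G u) G.t) (pullback.snd (sig G u) G.t)
    (sig G u) G.t := IsPullback.of_hasPullback _ _

lemma trans_sig : trans G u ≫ sig G u = pullback.snd (sig G u) G.t ≫ G.s := by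
  change trans G u ≫ pullback.fst G.t u ≫ G.s = _
  rw [trans_fst_assoc, mul_s]

variable {T : Scheme.{u}}

/-- the inverse construction: `(v, g) ↦ (v ∘ g⁻¹, g)` -/
lemma exists_untrans (v : T ⟶ arr G u) (g : T ⟶ G.R) (h : v ≫ sig G u = g ≫ G.s) :
    ∃ l : T ⟶ pullback (sig G u) G.t, l ≫ trans G u = v ∧ l ≫ pullback.snd (sig G u) G.t = g := by
  have h1 : (v ≫ pullback.fst G.t u) ≫ G.s = (g ≫ G.i) ≫ G.t := by
    rw [inv_t, ← h, sig, Category.assoc]
  let a : T ⟶ arr G u := pullback.lift (mul G (v ≫ pullback.fst G.t u) (g ≫ G.i) h1)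
    (v ≫ pullback.snd G.t u) (by rw [mul_t, Category.assoc, pullback.condition, Category.assoc])
  have ha1 : a ≫ pullback.fst G.t u = mul G (v ≫ pullback.fst G.t u) (g ≫ G.i) h1 :=
    pullback.lift_fst _ _ _
  have ha2 : a ≫ pullback.snd G.t u = v ≫ pullback.snd G.t u := pullback.lift_snd _ _ _
  have ha : a ≫ sig G u = g ≫ G.t := by
    rw [sig, reassoc_of% ha1, mul_s, inv_s]
  refine ⟨pullback.lift a g ha, ?_, pullback.lift_snd _ _ _⟩
  apply pullback.hom_ext
  · rw [Category.assoc, trans_fst, comp_mul]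
    refine Eq.trans (mul_congr G _ ?_ ?_) (inv_mul_cancel_right G (v ≫ pullback.fst G.t u) g h1 ?_)
    · rw [pullback.lift_fst_assoc, ha1]
    · rw [pullback.lift_snd]
    · rw [mul_s, inv_s]
  · rw [Category.assoc, trans_snd, pullback.lift_fst_assoc, ha2]

lemma trans_mono_aux {x y : T ⟶ pullback (sig G u) G.t} (h1 : x ≫ trans G u = y ≫ trans G u)
    (h2 : x ≫ pullback.snd (sig G u) G.t = y ≫ pullback.snd (sig G u) G.t) : x = y := by
  apply pullback.hom_ext _ h2
  have e1 := congrArg (fun f => f ≫ pullback.fst G.t u) h1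
  have e2 := congrArg (fun f => f ≫ pullback.snd G.t u) h1
  simp only [Category.assoc, trans_fst, comp_mul, trans_snd] at e1 e2
  apply pullback.hom_ext
  · rw [Category.assoc, Category.assoc]
    have aux : ∀ x : T ⟶ pullback (sig G u) G.t,
        (x ≫ pullback.fst (sig G u) G.t ≫ pullback.fst G.t u) ≫ G.s =
          (x ≫ pullback.snd (sig G u) G.t) ≫ G.t := by
      intro x
      rw [Category.assoc, trans_aux, Category.assoc]
    have e3 : mul G (x ≫ pullback.fst (sig G u) G.t ≫ pullback.fst G.t u)
        (x ≫ pullback.snd (sig G u) G.t) (aux x) =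
        mul G (y ≫ pullback.fst (sig G u) G.t ≫ pullback.fst G.t u)
        (x ≫ pullback.snd (sig G u) G.t) (by rw [h2]; exact aux y) := by
      rw [e1]
      exact mul_congr G _ rfl h2.symm
    exact mul_right_cancel G _ _ _ _ _ e3
  · rw [Category.assoc, Category.assoc]
    exact e2

lemma isPullback_trans : IsPullback (trans G u) (pullback.snd (sig G u) G.t) (sig G u) G.s := by
  refine ⟨⟨trans_sig G u⟩, ⟨PullbackCone.IsLimit.mk _
    (fun c => (exists_untrans G u c.fst c.snd c.condition).choose)
    (fun c => (exists_untrans G u c.fst c.snd c.condition).choose_spec.1)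
    (fun c => (exists_untrans G u c.fst c.snd c.condition).choose_spec.2) ?_⟩⟩
  intro c m h1 h2
  apply trans_mono_aux
  · rw [h1, (exists_untrans G u c.fst c.snd c.condition).choose_spec.1]
  · rw [h2, (exists_untrans G u c.fst c.snd c.condition).choose_spec.2]

lemma tau_aux : 𝟙 (arr G u) ≫ sig G u = (pullback.fst G.t u ≫ G.i) ≫ G.t := by
  rw [inv_t, Category.id_comp]
  rfl

/-- `(r, z) ↦ ((r, z), r⁻¹)` -/
noncomputable def tau : arr G u ⟶ pullback (sig G u) G.t :=
  pullback.lift (𝟙 _) (pullback.fst G.t u ≫ G.i) (tau_aux G u)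

@[reassoc (attr := simp)]
lemma tau_fst : tau G u ≫ pullback.fst (sig G u) G.t = 𝟙 _ := pullback.lift_fst _ _ _

@[reassoc (attr := simp)]
lemma tau_snd : tau G u ≫ pullback.snd (sig G u) G.t = pullback.fst G.t u ≫ G.i :=
  pullback.lift_snd _ _ _

lemma tau_trans : tau G u ≫ trans G u = pullback.snd G.t u ≫ sec G u := by
  apply pullback.hom_ext
  · rw [Category.assoc (pullback.snd G.t u), sec_fst, Category.assoc, trans_fst, comp_mul]
    have h : (pullback.fst G.t u) ≫ G.s = (pullback.fst G.t u ≫ G.i) ≫ G.t := by rw [inv_t]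
    refine Eq.trans (mul_congr G _ ?_ ?_) ((mul_inv G (pullback.fst G.t u) h).trans ?_)
    · rw [tau_fst_assoc]
    · rw [tau_snd]
    · rw [pullback.condition, Category.assoc]
  · rw [Category.assoc, trans_snd, tau_fst_assoc, Category.assoc, sec_snd, Category.comp_id]

lemma trans_tau_apply (v : arr G u) :
    trans G u (tau G u v) = sec G u (pullback.snd G.t u v) := by
  rw [← Scheme.Hom.comp_apply, tau_trans, Scheme.Hom.comp_apply]

lemma fst_tau_apply (v : arr G u) : pullback.fst (sig G u) G.t (tau G u v) = v := by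
  rw [← Scheme.Hom.comp_apply, tau_fst]
  rfl

/-- Flatness of `sig G u` at `v` follows from flatness at `(e (u z), z)`. -/
theorem flat_stalkMap_sig [Flat G.s] [Flat G.t] (v : arr G u)
    (hv : ((sig G u).stalkMap (sec G u (pullback.snd G.t u v))).hom.Flat) :
    ((sig G u).stalkMap v).hom.Flat := by
  set P := tau G u v with hP
  have h1 : ((sig G u).stalkMap (trans G u P)).hom.Flat :=
    Flat2D.FlatAtPt.flat_stalkMap_congr _ (trans_tau_apply G u v).symm hv
  have h2 := Flat2D.FlatAtPt.flat_stalkMap_of_isPullback (isPullback_trans G u) P h1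
  have hs' : Flat (pullback.fst (sig G u) G.t) := inferInstance
  have h3 := Flat2D.FlatAtPt.flat_stalkMap_comp (pullback.snd (sig G u) G.t) G.t P h2
    (Flat.stalkMap _ _)
  have h5 : ((pullback.fst (sig G u) G.t ≫ sig G u).stalkMap P).hom.Flat := by
    rw [pullback.condition]; exact h3
  have h6 := Flat2D.FlatAtPt.flat_stalkMap_of_comp (pullback.fst (sig G u) G.t) (sig G u) P h5
    (Flat.stalkMap _ _)
  exact Flat2D.FlatAtPt.flat_stalkMap_congr _ (fst_tau_apply G u v) h6

/-- Quasi-finiteness of `sig G u` at `v` follows from quasi-finiteness at `(e (u z), z)`. -/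
theorem quasiFiniteAt_sig [LocallyOfFiniteType (sig G u)] (v : arr G u)
    (hv : (sig G u).QuasiFiniteAt (sec G u (pullback.snd G.t u v))) :
    (sig G u).QuasiFiniteAt v := by
  set P := tau G u v with hP
  have h1 : (sig G u).QuasiFiniteAt (trans G u P) := by
    rw [hP, trans_tau_apply]
    exact hv
  have h2 := Sga3C.QuotQFAt.quasiFiniteAt_of_isPullback (isPullback_trans G u) P h1
  have h3 := Sga3C.QuotQFAt.quasiFiniteAt_of_isPullback_descent (isPullback_fst G u) P h2
  rwa [hP, fst_tau_apply] at h3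

/-- If `sig G u` is flat at all points `(e (u z), z)` then it is flat. -/
theorem flat_sig [Flat G.s] [Flat G.t]
    (h : ∀ z : Z, ((sig G u).stalkMap (sec G u z)).hom.Flat) : Flat (sig G u) := by
  rw [Flat.iff_flat_stalkMap]
  intro v
  exact flat_stalkMap_sig G u v (h _)

/-- If `sig G u` is quasi-finite at all points `(e (u z), z)` then it is locally quasi-finite. -/
theorem locallyQuasiFinite_sig [LocallyOfFiniteType (sig G u)]
    (h : ∀ z : Z, (sig G u).QuasiFiniteAt (sec G u z)) : LocallyQuasiFinite (sig G u) := by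
  rw [← Scheme.Hom.quasiFiniteLocus_eq_top_iff, eq_top_iff]
  intro v _
  exact quasiFiniteAt_sig G u v (h _)

end Groth.Agent.GrpQ.H769.Sig
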