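import Groth.Agent.Sga3C.QuotQF
import Groth.Agent.GrpQ.H769.Sig
import Groth.Agent.Sga3C.QuotMaxChart

/-!
# Finiteness near maximal points, without separatedness; saturation

`exists_isFinite_nhd`: a quasi-finite morphism of Noetherian schemes is finite over a neighbourhood of
every maximal point of the target.
-/

set_option autoImplicit false

universe u

open CategoryTheory Limits AlgebraicGeometry

namespace Groth.Agent.GrpQ.H769.FinNear

open Groth.Agent.Sga3C.QuotQF Sig

/-- The closure of the image of a closed subset without points over the maximal point `y` does not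
contain `y`. -/
theorem notMem_closure_image {X Y : Scheme.{u}} [IsNoetherian X] (f : X ⟶ Y) (y : Y)
    (hy : IsMaxPt y) (C : Set X) (hC : IsClosed C) (h : ∀ x ∈ C, f x ≠ y) :
    y ∉ closure (f '' C) := by
  intro hyC
  obtain ⟨S, hSf, hSc, hSi, hS⟩ :=
    TopologicalSpace.NoetherianSpace.exists_finite_set_isClosed_irreducible hC
  have hS' : C = ⋃ D ∈ S, (D : Set X) := by rw [hS, Set.sUnion_eq_biUnion]
  have hW2 : f '' C = ⋃ D ∈ S, f '' (D : Set X) := by
    rw [hS', Set.image_iUnion₂]
  rw [hW2, hSf.closure_biUnion] at hyC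
  simp only [Set.mem_iUnion] at hyC
  obtain ⟨D, hD, hyD⟩ := hyC
  obtain ⟨ρ, hρ⟩ := QuasiSober.sober (hSi D hD) (hSc D hD)
  have h1 : f ρ ⤳ y := by
    rw [specializes_iff_mem_closure]
    refine closure_minimal ?_ isClosed_closure hyD
    rintro _ ⟨w, hw, rfl⟩
    have h2 : ρ ⤳ w := by
      rw [specializes_iff_mem_closure, hρ.def]; exact hw
    exact specializes_iff_mem_closure.1 (h2.map f.continuous)
  have h5 : ρ ∈ C := by
    rw [hS']
    exact Set.mem_biUnion hD (by rw [← hρ.def]; exact subset_closure rfl)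
  exact h ρ h5 (hy _ h1)

/-- A quasi-finite morphism of Noetherian schemes is finite near every maximal point of the
target. -/
theorem exists_isFinite_nhd {X Y : Scheme.{u}} [IsNoetherian X] (f : X ⟶ Y)
    [LocallyOfFiniteType f] [LocallyQuasiFinite f] (y : Y) (hy : IsMaxPt y) :
    ∃ V : Y.Opens, y ∈ V ∧ IsFinite (f ∣_ V) := by
  obtain ⟨W, hW, hWm⟩ := exists_affine_maxPts X
    TopologicalSpace.NoetherianSpace.finite_irreducibleComponents
  have h1 : y ∉ closure (f '' (W : Set X)ᶜ) := by
    apply notMem_closure_image f y hy _ W.isOpen.isClosed_compl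
    rintro x hx rfl
    exact hx (hWm x (isMaxPt_of_quasiFinite f x hy))
  let V₁ : Y.Opens := ⟨(closure (f '' (W : Set X)ᶜ))ᶜ, isClosed_closure.isOpen_compl⟩
  have hV₁ : f ⁻¹ᵁ V₁ ≤ W := by
    intro x hx
    by_contra hxW
    exact hx (subset_closure ⟨x, hxW, rfl⟩)
  have hWaff : IsAffine (W : Scheme.{u}) := hW
  let i : (f ⁻¹ᵁ V₁ : Scheme.{u}) ⟶ (W : Scheme.{u}) := X.homOfLE hV₁
  have hsep0 : (f ⁻¹ᵁ V₁ : Scheme.{u}).IsSeparated := by
    have : IsSeparated (i ≫ terminal.from (W : Scheme.{u})) := inferInstance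
    constructor
    convert this
    exact Subsingleton.elim _ _
  have hsep : IsSeparated (f ∣_ V₁) := inferInstance
  have hN : IsNoetherian (f ⁻¹ᵁ V₁ : Scheme.{u}) := by
    have : CompactSpace (f ⁻¹ᵁ V₁ : Scheme.{u}) :=
      isCompact_iff_compactSpace.mp (TopologicalSpace.NoetherianSpace.isCompact _)
    exact {}
  obtain ⟨V, hV, hV'⟩ := exists_isFinite_nhd_maxPt (f ∣_ V₁)
    TopologicalSpace.NoetherianSpace.finite_irreducibleComponents
  refine ⟨V₁.ι ''ᵁ V, ?_, ?_⟩
  · refine ⟨⟨y, h1⟩, hV _ ?_, rfl⟩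
    intro y' hy'
    apply V₁.ι.isOpenEmbedding.injective
    exact hy _ (hy'.map V₁.ι.continuous)
  · have := (MorphismProperty.arrow_mk_iso_iff @IsFinite (morphismRestrictRestrict f V₁ V)).1 hV'
    exact this

end Groth.Agent.GrpQ.H769.FinNear
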