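import Groth.Agent.GrpQ.H769.GoodW
import Groth.Agent.Sga3.H775.GoodConcl

/-!
# Good opens from slices
-/

set_option autoImplicit false

universe u

open CategoryTheory Limits AlgebraicGeometry

namespace Groth.Agent.GrpQ.H769.GoodMain

open Sig IsolFib Slice GoodW Groth.Agent.Grpsch.Restrict Groth.Agent.Grpsch
open Groth.Agent.GrpQ.H766.AffineCase Groth.Agent.GrpQ.H766.GeomQuotDef
open Groth.Agent.Sga3.H775 Groth.Agent.Sga3.H775.FullQuot

variable {S : Scheme.{u}} (G : Grpd.GroupoidScheme S) {Z : Scheme.{u}} (u : Z ⟶ G.U)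
  (W : G.U.Opens) (hW : G.s ⁻¹ᵁ W = G.t ⁻¹ᵁ W)

include hW

/-- The iso between `s⁻¹ W` and the arrows of the restricted groupoid. -/
theorem exists_iso_fromPreimage : ∃ e : (G.s ⁻¹ᵁ W : G.R.Opens).toScheme ≅ arrows G W.ι,
    e.hom = fromPreimage G W hW := by
  have h1 : Surjective (fromPreimage G W hW) := ⟨fun y => by
    have h2 : y ∈ (fromPreimage G W hW).opensRange := by
      rw [opensRange_fromPreimage]; trivial
    exact h2⟩
  have h3 : IsIso (fromPreimage G W hW) := by
    rw [isIso_iff_isOpenImmersion_and_surjective]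
    exact ⟨inferInstance, inferInstance⟩
  exact ⟨asIso (fromPreimage G W hW), rfl⟩

theorem goodQ_of_slice [IsLocallyNoetherian S] [Flat G.s] [LocallyOfFiniteType G.s]
    [LocallyOfFiniteType G.pU] [IsAffine Z] [LocallyOfFiniteType u] [Flat (sig G u)]
    (hfin : IsFinite (sig G u ∣_ W)) (hr : (W : Set G.U) ⊆ Set.range (sig G u)) :
    GoodQ (Mono G.j) G.s G.t G.pU W := by
  have hU1 : IsLocallyNoetherian G.U := LocallyOfFiniteType.isLocallyNoetherian G.pU
  have hZ1 : IsLocallyNoetherian Z := LocallyOfFiniteType.isLocallyNoetherian u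
  have hZ2 : IsNoetherian Z := {}
  have hlfp : LocallyOfFinitePresentation (sig G u) := inferInstance
  let GW := restrict G W.ι
  let g : (u ⁻¹ᵁ W : Scheme.{u}) ⟶ GW.U := gW G u W
  let f : VW G u W ⟶ (W : Scheme.{u}) := pullback.fst (tgt G W.ι) (gW G u W) ≫ src G W.ι
  have H : IsPullback (kap G u W) f (sig G u) W.ι := isPullback_sig G u W hW
  have hflat : Flat f := MorphismProperty.of_isPullback H inferInstance
  have hflfp : LocallyOfFinitePresentation f := MorphismProperty.of_isPullback H inferInstance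
  have hffin : IsFinite f := by
    have H2 : IsPullback ((sig G u) ⁻¹ᵁ W).ι (sig G u ∣_ W) (sig G u) W.ι :=
      (isPullback_morphismRestrict (sig G u) W).flip
    have e : (H.isoIsPullback _ _ H2).hom ≫ (sig G u ∣_ W) = f := H.isoIsPullback_hom_snd _ _ H2
    rw [← e]
    infer_instance
  have hfs : Surjective f := by
    refine ⟨fun y => ?_⟩
    obtain ⟨v, hv⟩ := hr y.2
    obtain ⟨w, -, hw⟩ := Scheme.exists_preimage_of_isPullback H v y hv
    exact ⟨w, hw⟩
  have h1 : Mor2.IsFinLocFree (pullback.fst GW.t g ≫ GW.s) := ⟨hffin, hflat, hflfp⟩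
  have h1s : Surjective (pullback.fst GW.t g ≫ GW.s) := hfs
  have hcomp : CompactSpace (u ⁻¹ᵁ W : Scheme.{u}) :=
    isCompact_iff_compactSpace.mp (TopologicalSpace.NoetherianSpace.isCompact _)
  have hqa : (u ⁻¹ᵁ W : Scheme.{u}).IsQuasiAffine := Scheme.IsQuasiAffine.of_isImmersion (u ⁻¹ᵁ W).ι
  have h2 : ∀ E : Set (u ⁻¹ᵁ W : Scheme.{u}),
      (∀ x ∈ E, ∀ y ∈ E, ∃ r : GW.R, GW.t r = g x ∧ GW.s r = g y) →
      ∃ V : (u ⁻¹ᵁ W : Scheme.{u}).Opens, IsAffineOpen V ∧ E ⊆ (V : Set (u ⁻¹ᵁ W : Scheme.{u})) := by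
    intro E hE
    have hEfin : E.Finite := by
      obtain rfl | ⟨x₀, hx₀⟩ := E.eq_empty_or_nonempty
      · exact Set.finite_empty
      · refine Set.Finite.subset ((f.finite_preimage_singleton (g x₀)).image
          (pullback.snd (tgt G W.ι) (gW G u W))) ?_
        intro x hx
        obtain ⟨r, hr1, hr2⟩ := hE x hx x₀ hx₀
        obtain ⟨v, hv1, hv2⟩ := Scheme.Pullback.exists_preimage_pullback
          (f := tgt G W.ι) (g := gW G u W) r x hr1
        refine ⟨v, ?_, hv2⟩
        change (pullback.fst (tgt G W.ι) (gW G u W) ≫ src G W.ι) v = g x₀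
        rw [Scheme.Hom.comp_apply, hv1]
        exact hr2
    obtain ⟨b, hb, hba⟩ := Groth.Agent.Ega2.FiniteSet.exists_basicOpen_of_finite E hEfin
    exact ⟨_, hba, hb⟩
  obtain ⟨Y, p, C⟩ := Groth.Agent.GrpQ.H767.Strong.exists_concl GW g h1 h2
  obtain ⟨eR, heR⟩ := exists_iso_fromPreimage G W hW
  have hfull : Full (Mono G.j) (src G W.ι) (tgt G W.ι) (W.ι ≫ G.pU) p := by
    refine ⟨C.geom, C.lift, ?_, ?_, ?_⟩
    · intro q hq
      have i1 := C.integral
      have i2 : LocallyOfFiniteType ((g ≫ p) ≫ q) := by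
        have : (g ≫ p) ≫ q = (u ⁻¹ᵁ W).ι ≫ u ≫ G.pU := by
          refine (Category.assoc _ _ _).trans ?_
          refine (congrArg (fun k : GW.U ⟶ S => g ≫ k) hq).trans ?_
          change (u ∣_ W) ≫ W.ι ≫ G.pU = _
          rw [morphismRestrict_ι_assoc]
        rw [this]
        infer_instance
      exact ArtinTate.locallyOfFiniteType_of_isIntegralHom (g ≫ p) q (fun V _ => C.inj V)
    · intro hm
      exact C.pb inferInstance
    · intro hm
      have hGt : Flat G.t := (Groth.Agent.Grpsch.Points.s_iff_t G @Flat).1 inferInstance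
      have : Flat (tgt G W.ι) := MorphismProperty.of_isPullback (isPullback_tgt G W hW).flip hGt
      exact C.flat inferInstance this
  refine ⟨hW, Y, _, hfull.of_iso eR (Iso.refl _) _ _ _ ?_ ?_ ?_⟩
  · rw [heR, fromPreimage_src]; exact Category.comp_id _
  · rw [heR, fromPreimage_tgt]; exact Category.comp_id _
  · exact Category.id_comp _

end Groth.Agent.GrpQ.H769.GoodMain
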