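import Groth.Agent.GrpQ.H769.OpenSlice
import Groth.Agent.Sga3.H775.FullQuot
import Groth.Agent.Sga3.H775.ArtinTate
import Groth.Agent.GrpQ.H767.Strong
import Groth.Agent.Ega2.FiniteSet

/-!
# Quotients over a saturated open with a finite flat slice
-/

set_option autoImplicit false

universe u

open CategoryTheory Limits AlgebraicGeometry

namespace Groth.Agent.GrpQ.H769.GoodW

open Sig IsolFib Slice Groth.Agent.Grpsch.Restrict Groth.Agent.Grpsch
open Groth.Agent.GrpQ.H766.AffineCase Groth.Agent.GrpQ.H766.GeomQuotDef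
open Groth.Agent.Sga3.H775 Groth.Agent.Sga3.H775.FullQuot

variable {S : Scheme.{u}} (G : Grpd.GroupoidScheme S) {Z : Scheme.{u}} (u : Z ⟶ G.U)
  (W : G.U.Opens) (hW : G.s ⁻¹ᵁ W = G.t ⁻¹ᵁ W)

/-- the slice restricted to `W` -/
noncomputable abbrev gW : (u ⁻¹ᵁ W : Scheme.{u}) ⟶ (W : Scheme.{u}) := u ∣_ W

/-- arrows over `W` with target in the slice -/
noncomputable abbrev VW : Scheme.{u} := pullback (tgt G W.ι) (gW G u W)

/-- comparison with arrows over `U` -/
noncomputable def kap : VW G u W ⟶ arr G u :=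
  pullback.lift (pullback.fst (tgt G W.ι) (gW G u W) ≫ toR G W.ι)
    (pullback.snd (tgt G W.ι) (gW G u W) ≫ (u ⁻¹ᵁ W).ι) (by
      rw [Category.assoc, toR_t, pullback.condition_assoc, morphismRestrict_ι, Category.assoc])

lemma kap_fst : kap G u W ≫ pullback.fst G.t u =
    pullback.fst (tgt G W.ι) (gW G u W) ≫ toR G W.ι := pullback.lift_fst _ _ _

lemma kap_snd : kap G u W ≫ pullback.snd G.t u =
    pullback.snd (tgt G W.ι) (gW G u W) ≫ (u ⁻¹ᵁ W).ι := pullback.lift_snd _ _ _

include hW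

lemma isPullback_kap : IsPullback (kap G u W) (pullback.snd (tgt G W.ι) (gW G u W))
    (pullback.snd G.t u) (u ⁻¹ᵁ W).ι := by
  refine IsPullback.of_right ?_ (kap_snd G u W) (IsPullback.of_hasPullback G.t u)
  rw [kap_fst]
  have h1 : IsPullback (pullback.fst (tgt G W.ι) (gW G u W) ≫ toR G W.ι)
      (pullback.snd (tgt G W.ι) (gW G u W)) G.t (gW G u W ≫ W.ι) :=
    (IsPullback.of_hasPullback (tgt G W.ι) (gW G u W)).paste_horiz (isPullback_tgt G W hW).flip
  rwa [morphismRestrict_ι] at h1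

lemma isOpenImmersion_kap : IsOpenImmersion (kap G u W) :=
  MorphismProperty.of_isPullback (isPullback_kap G u W hW).flip inferInstance

lemma isPullback_sig : IsPullback (kap G u W)
    (pullback.fst (tgt G W.ι) (gW G u W) ≫ src G W.ι) (sig G u) W.ι := by
  have hk := isOpenImmersion_kap G u W hW
  apply Groth.Agent.GrpQ.H765.GlueProps.isPullback_of_opensRange
  · rw [Category.assoc, ← toR_s, sig, ← Category.assoc, ← kap_fst, Category.assoc]
  · have h1 : (kap G u W).opensRange = (pullback.snd G.t u) ⁻¹ᵁ (u ⁻¹ᵁ W) := by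
      ext v
      constructor
      · rintro ⟨w, rfl⟩
        change pullback.snd G.t u (kap G u W w) ∈ u ⁻¹ᵁ W
        rw [← Scheme.Hom.comp_apply, kap_snd, Scheme.Hom.comp_apply]
        exact (pullback.snd (tgt G W.ι) (gW G u W) w).2
      · intro hv
        obtain ⟨w, hw, -⟩ := Scheme.exists_preimage_of_isPullback (isPullback_kap G u W hW) v
          ⟨_, hv⟩ rfl
        exact ⟨w, hw⟩
    rw [h1, Scheme.Opens.opensRange_ι, ← Scheme.Hom.comp_preimage, ← pullback.condition,
      Scheme.Hom.comp_preimage, ← hW, ← Scheme.Hom.comp_preimage]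
    rfl

end Groth.Agent.GrpQ.H769.GoodW
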