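import Groth.Agent.Sga3C.DimTop
import Groth.Agent.Sga3C.QuotQFCrit
import Groth.Agent.Grpsch.Points
import Mathlib.RingTheory.Jacobson.Artinian
import Mathlib.AlgebraicGeometry.Morphisms.UniversallyInjective
import Mathlib.AlgebraicGeometry.Artinian

/-!
# Points closed in their fibre; isolated arrows

`ClosedInFib f x`: the point `x` is closed in its fibre under `f`.  If `j = (t, s) : R → U ×_S U` is
locally quasi-finite, an arrow with target closed in its `S`-fibre has no proper generization with the
same source and target.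
-/

set_option autoImplicit false

universe u

open CategoryTheory Limits AlgebraicGeometry

namespace Groth.Agent.GrpQ.H769.IsolFib

/-- `x` is closed in its fibre under `f`. -/
def ClosedInFib {X S : Scheme.{u}} (f : X ⟶ S) (x : X) : Prop :=
  ∀ x' : X, x ⤳ x' → f x' = f x → x' = x

section

variable {X S : Scheme.{u}} (f : X ⟶ S)

lemma apply_fiberι (σ : S) (z : f.fiber σ) : f (f.fiberι σ z) = σ := by
  have : f.fiberι σ z ∈ Set.range (f.fiberι σ) := ⟨z, rfl⟩
  rw [Scheme.Hom.range_fiberι] at this
  exact this

lemma closedInFib_fiberι (σ : S) (z : f.fiber σ) (hz : IsClosed ({z} : Set (f.fiber σ))) :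
    ClosedInFib f (f.fiberι σ z) := by
  intro x' hx' hfx
  rw [apply_fiberι] at hfx
  have h1 : x' ∈ Set.range (f.fiberι σ) := by
    rw [Scheme.Hom.range_fiberι]; exact hfx
  obtain ⟨z', rfl⟩ := h1
  have h2 : z ⤳ z' := ((f.fiberι σ).isEmbedding.isInducing.specializes_iff).1 hx'
  have h3 : z' ∈ ({z} : Set (f.fiber σ)) := h2.mem_closed hz rfl
  rw [Set.mem_singleton_iff.1 h3]

/-- Every nonempty open contains a point closed in its fibre. -/
theorem exists_closedInFib [LocallyOfFiniteType f] (O : X.Opens) (hO : (O : Set X).Nonempty) :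
    ∃ x ∈ O, ClosedInFib f x := by
  obtain ⟨y, hy⟩ := hO
  let σ := f y
  have h0 : LocallyOfFiniteType (f.fiberToSpecResidueField σ) :=
    MorphismProperty.pullback_snd _ _ ‹_›
  have h2 : JacobsonSpace (f.fiber σ) :=
    LocallyOfFiniteType.jacobsonSpace (f.fiberToSpecResidueField σ)
  have h3 : Dense (closedPoints (f.fiber σ)) := dense_iff_closure_eq.2 closure_closedPoints
  obtain ⟨z, hz1, hz2⟩ := h3.exists_mem_open (f.fiberι σ ⁻¹ᵁ O).isOpen
    ⟨f.asFiber y, by
      change f.fiberι σ (f.asFiber y) ∈ O
      rw [show f.fiberι σ (f.asFiber y) = y from f.fiberι_asFiber y]; exact hy⟩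
  exact ⟨_, hz2, closedInFib_fiberι f σ z hz1⟩

lemma isClosed_asFiber {x : X} (hx : ClosedInFib f x) :
    IsClosed ({f.asFiber x} : Set (f.fiber (f x))) := by
  rw [← closure_subset_iff_isClosed]
  intro z hz
  have h1 : f.asFiber x ⤳ z := specializes_iff_mem_closure.2 hz
  have h2 := h1.map (f.fiberι (f x)).continuous
  rw [f.fiberι_asFiber x] at h2
  have h3 := hx _ h2 (apply_fiberι f _ z)
  apply (f.fiberι (f x)).isEmbedding.injective
  rw [h3, f.fiberι_asFiber x]

end

/-- The residue field of a closed point of a scheme locally of finite type over a field. -/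
theorem isFinite_fromSpecResidueField_comp {K : CommRingCat.{u}} (hK : IsField K)
    {X : Scheme.{u}} (f : X ⟶ Spec K) [LocallyOfFiniteType f] (x : X)
    (hx : IsClosed ({x} : Set X)) : IsFinite (X.fromSpecResidueField x ≫ f) := by
  let := hK.toField
  have : IsArtinianRing K := inferInstance
  have := isClosed_singleton_iff_isClosedImmersion.mp hx
  rw [isFinite_iff_locallyOfFiniteType_of_jacobsonSpace]
  infer_instance

/-- `q'`, `q` two points of `X ×_S Y` with the same images, `q' ⤳ q`, and the image in `X` closed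
in its fibre over `S`. -/
theorem eq_of_specializes_of_isPullback {P X Y S : Scheme.{u}} {a : P ⟶ X} {b : P ⟶ Y} {f : X ⟶ S}
    {g : Y ⟶ S} (h : IsPullback a b f g) [LocallyOfFiniteType f] (q' q : P) (hq : q' ⤳ q)
    (hx : ClosedInFib f (a q)) (h1 : a q' = a q) (h2 : b q' = b q) : q' = q := by
  set σ := f (a q) with hσ
  let xt : f.fiber σ := f.asFiber (a q)
  have hxt : IsClosed ({xt} : Set (f.fiber σ)) := isClosed_asFiber f hx
  let i₀ : Spec ((f.fiber σ).residueField xt) ⟶ f.fiber σ := (f.fiber σ).fromSpecResidueField xt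
  let i : Spec ((f.fiber σ).residueField xt) ⟶ X := i₀ ≫ f.fiberι σ
  have hir : ∀ t, i t = a q := by
    intro t
    have : i₀ t ∈ Set.range i₀ := ⟨t, rfl⟩
    rw [Scheme.range_fromSpecResidueField] at this
    change f.fiberι σ (i₀ t) = a q
    rw [Set.mem_singleton_iff.1 this]
    exact f.fiberι_asFiber (a q)
  have h0 : LocallyOfFiniteType (f.fiberToSpecResidueField σ) :=
    MorphismProperty.pullback_snd _ _ ‹_›
  let c : Spec ((f.fiber σ).residueField xt) ⟶ Spec (S.residueField σ) :=
    i₀ ≫ f.fiberToSpecResidueField σ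
  have hc : IsFinite c :=
    isFinite_fromSpecResidueField_comp (Field.toIsField _) (f.fiberToSpecResidueField σ) xt hxt
  have hcf : i ≫ f = c ≫ S.fromSpecResidueField σ := by
    have : f.fiberι σ ≫ f = f.fiberToSpecResidueField σ ≫ S.fromSpecResidueField σ :=
      pullback.condition
    simp only [i, c, Category.assoc, this]
  let j : pullback i a ⟶ P := pullback.snd i a
  have hH : IsPullback (pullback.fst i a) (j ≫ b) (i ≫ f) g :=
    (IsPullback.of_hasPullback i a).paste_vert h
  let M := pullback (S.fromSpecResidueField σ) g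
  let m : pullback i a ⟶ M := pullback.lift (pullback.fst i a ≫ c) (j ≫ b) (by
    rw [Category.assoc, ← hcf]
    exact hH.w)
  have hm : IsPullback (pullback.fst i a) m c (pullback.fst (S.fromSpecResidueField σ) g) := by
    have hH' : IsPullback (pullback.fst i a) (m ≫ pullback.snd _ _) (c ≫ S.fromSpecResidueField σ) g := by
      rw [pullback.lift_snd, ← hcf]; exact hH
    exact IsPullback.of_bot hH' (by rw [pullback.lift_fst]) (IsPullback.of_hasPullback _ _)
  have hint : IsIntegralHom m := by
    have : IsFinite m := MorphismProperty.of_isPullback hm hc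
    infer_instance
  have hir' : i ⁻¹' {a q} = Set.univ := Set.eq_univ_of_forall hir
  have hr : ∀ p : P, a p = a q → ∃ t, j t = p := fun p hp => by
    have h3 : p ∈ Set.range (pullback.snd i a) := by
      rw [Scheme.Pullback.range_snd, Set.mem_preimage]
      refine ⟨IsLocalRing.closedPoint _, ?_⟩
      rw [hir]
      exact hp.symm
    exact h3
  obtain ⟨t', ht'⟩ := hr q' h1
  obtain ⟨t, ht⟩ := hr q rfl
  have hi : IsPreimmersion i := inferInstance
  have hj : IsPreimmersion j := inferInstance
  have hs : t' ⤳ t := by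
    rw [← (j.isEmbedding).isInducing.specializes_iff, ht', ht]
    exact hq
  have hmt : m t' = m t := by
    have hemb : IsPreimmersion (pullback.snd (S.fromSpecResidueField σ) g) := inferInstance
    apply (pullback.snd (S.fromSpecResidueField σ) g).isEmbedding.injective
    have e : ∀ t, pullback.snd (S.fromSpecResidueField σ) g (m t) = b (j t) := by
      intro t
      have e' : m ≫ pullback.snd (S.fromSpecResidueField σ) g = j ≫ b := pullback.lift_snd _ _ _
      rw [← Scheme.Hom.comp_apply, ← Scheme.Hom.comp_apply, e']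
    rw [e, e, ht', ht, h2]
  have he := Sga3C.DimTop.eq_of_specializes_of_isIntegralHom m t' t hs hmt
  exact ht'.symm.trans ((congrArg j he).trans ht)

/-- Quasi-finiteness at a point closed in its fibre without proper generizations in the fibre. -/
theorem quasiFiniteAt_of_isolated {X Y : Scheme.{u}} (f : X ⟶ Y) [LocallyOfFiniteType f] (x : X)
    (hx : ClosedInFib f x) (h : ∀ x' : X, x' ⤳ x → f x' = f x → x' = x) : f.QuasiFiniteAt x := by
  rw [Scheme.Hom.quasiFiniteAt_iff_isOpen_singleton_asFiber]
  have h0 : LocallyOfFiniteType (f.fiberToSpecResidueField (f x)) :=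
    MorphismProperty.pullback_snd _ _ ‹_›
  have h1 : IsLocallyNoetherian (f.fiber (f x)) :=
    LocallyOfFiniteType.isLocallyNoetherian (f.fiberToSpecResidueField (f x))
  have h2 : JacobsonSpace (f.fiber (f x)) :=
    LocallyOfFiniteType.jacobsonSpace (f.fiberToSpecResidueField (f x))
  refine Sga3C.QuotQFCrit.isOpen_singleton_of_isClosed _ _ (isClosed_asFiber f hx) ?_
  intro y hy
  apply (f.fiberι (f x)).isEmbedding.injective
  rw [f.fiberι_asFiber x]
  refine h _ ?_ (apply_fiberι f _ y)
  have := hy.map (f.fiberι (f x)).continuous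
  rwa [f.fiberι_asFiber x] at this

/-- An arrow with target closed in its `S`-fibre has no proper generization with the same source
and target, if `j` is locally quasi-finite. -/
theorem eq_of_specializes_of_j {S : Scheme.{u}} (G : Grpd.GroupoidScheme S)
    [LocallyOfFiniteType G.pU] [LocallyQuasiFinite G.j] [LocallyOfFiniteType G.j] (r' r : G.R)
    (h : r' ⤳ r) (hx : ClosedInFib G.pU (G.t r)) (h1 : G.t r' = G.t r) (h2 : G.s r' = G.s r) :
    r' = r := by
  have e1 : ∀ r, pullback.fst G.pU G.pU (G.j r) = G.t r := fun r => by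
    rw [← Scheme.Hom.comp_apply, Grpd.GroupoidScheme.j, pullback.lift_fst]
  have e2 : ∀ r, pullback.snd G.pU G.pU (G.j r) = G.s r := fun r => by
    rw [← Scheme.Hom.comp_apply, Grpd.GroupoidScheme.j, pullback.lift_snd]
  have h3 : G.j r' = G.j r :=
    eq_of_specializes_of_isPullback (IsPullback.of_hasPullback G.pU G.pU) (G.j r') (G.j r)
      (h.map G.j.continuous) (by rw [e1]; exact hx) (by rw [e1, e1, h1]) (by rw [e2, e2, h2])
  have hd : _root_.IsDiscrete (G.j ⁻¹' {G.j r}) :=
    (locallyQuasiFinite_iff_isDiscrete_preimage_singleton.mp inferInstance) (G.j r)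
  exact hd.eq_of_specializes h h3 rfl

end Groth.Agent.GrpQ.H769.IsolFib
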