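import Groth.Agent.GrpQ.H769.Slice
import Groth.Agent.GrpQ.H769.FinNear
import Groth.Agent.Grpsch.GrpdPt
import Groth.Agent.Grpsch.PtRestrict
import Groth.Agent.S1936

/-!
# Slices finite over a saturated open

For a groupoid scheme over a Noetherian base (`s` flat of finite type, `j` quasi-finite, `U` of finite
type), every nonempty saturated open `O` of `U` contains a nonempty saturated open `W` over which
`sig u : R ×_{t,U} Z ⟶ U` is finite flat and surjective, for some `u : Z ⟶ U` with `Z` affine.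
-/

set_option autoImplicit false

universe u

open CategoryTheory Limits AlgebraicGeometry

namespace Groth.Agent.GrpQ.H769.OpenSlice

open Sig IsolFib Slice Groth.Agent.Sga3C.QuotQF

theorem exists_maxPt {X : Scheme.{u}} (x : X) : ∃ m : X, m ⤳ x ∧ IsMaxPt m := by
  have hirr : IsIrreducible (irreducibleComponent x) := isIrreducible_irreducibleComponent
  obtain ⟨m, hm⟩ := QuasiSober.sober hirr isClosed_irreducibleComponent
  refine ⟨m, hm.specializes mem_irreducibleComponent, ?_⟩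
  intro m' hm'
  have h1 : irreducibleComponent x ⊆ closure {m'} := by
    rw [← hm.def]
    exact closure_minimal (Set.singleton_subset_iff.2 (specializes_iff_mem_closure.1 hm'))
      isClosed_closure
  have h2 : closure {m'} ⊆ irreducibleComponent x := by
    have := eq_irreducibleComponent (isIrreducible_singleton (x := m')).closure.isPreirreducible h1
    exact this.le
  have h3 : IsGenericPoint m' (irreducibleComponent x) := h2.antisymm h1
  exact h3.eq hm

variable {S : Scheme.{u}} (G : Grpd.GroupoidScheme S)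

/-- If `sig u` is finite over `V` then it is finite over the saturation of `V`. -/
theorem isFinite_satur [Flat G.s] [LocallyOfFinitePresentation G.s] {Z : Scheme.{u}} (u : Z ⟶ G.U)
    (V W : G.U.Opens) (hV : IsFinite (sig G u ∣_ V))
    (hW : (W : Set G.U) = G.s '' (G.t ⁻¹' (V : Set G.U))) : IsFinite (sig G u ∣_ W) :=
  Groth.Agent.Sga3C.QuotMaxChart.isFinite_image (isPullback_fst G u) (isPullback_trans G u)
    V W hV hW

/-- The saturation `s (t ⁻¹ V)` is saturated. -/
theorem preimage_satur (V W : G.U.Opens) (hW : (W : Set G.U) = G.s '' (G.t ⁻¹' (V : Set G.U))) :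
    G.s ⁻¹ᵁ W = G.t ⁻¹ᵁ W := by
  have hE := Groth.Agent.Grpsch.GrpdPt.isPtEquiv G
  refine Groth.Agent.Grpsch.PtRestrict.preimage_eq_of_inv hE W fun r hr => ?_
  have hr' : G.s r ∈ (W : Set G.U) := hr
  rw [hW] at hr'
  obtain ⟨r₁, hr₁, hr₂⟩ := hr'
  change G.t r ∈ (W : Set G.U)
  rw [hW]
  -- `r : s r → t r`, `r₁ : s r → t r₁ ∈ V`
  obtain ⟨r', h1, h2⟩ := hE.symm r
  obtain ⟨r'', h3, h4⟩ := hE.trans r₁ r' (by rw [hr₂, h2])
  exact ⟨r'', by change G.t r'' ∈ V; rw [h4]; exact hr₁, by rw [h3, h1]⟩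

/-- The saturation of an open as an open. -/
theorem exists_satur [Flat G.s] [LocallyOfFinitePresentation G.s] (V : G.U.Opens) :
    ∃ W : G.U.Opens, (W : Set G.U) = G.s '' (G.t ⁻¹' (V : Set G.U)) :=
  ⟨⟨_, G.s.isOpenMap _ (G.t ⁻¹ᵁ V).isOpen⟩, rfl⟩

theorem exists_open_slice [IsNoetherian S] [Flat G.s] [LocallyOfFiniteType G.s] [QuasiCompact G.s]
    [LocallyOfFiniteType G.pU] [QuasiCompact G.pU] [LocallyQuasiFinite G.j]
    [LocallyOfFiniteType G.j] (O : G.U.Opens) (hO : G.s ⁻¹ᵁ O = G.t ⁻¹ᵁ O)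
    (hne : (O : Set G.U).Nonempty) :
    ∃ (W : G.U.Opens) (Z : Scheme.{u}) (u : Z ⟶ G.U), W ≤ O ∧ (W : Set G.U).Nonempty ∧
      G.s ⁻¹ᵁ W = G.t ⁻¹ᵁ W ∧ IsAffine Z ∧ LocallyOfFiniteType u ∧ Flat (sig G u) ∧
      IsFinite (sig G u ∣_ W) ∧ (W : Set G.U) ⊆ Set.range (sig G u) := by
  have hU1 : IsLocallyNoetherian G.U := LocallyOfFiniteType.isLocallyNoetherian G.pU
  have hU2 : CompactSpace G.U := QuasiCompact.compactSpace_of_compactSpace G.pU
  have hGt : Flat G.t := (Groth.Agent.Grpsch.Points.s_iff_t G @Flat).1 inferInstance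
  have hGl : LocallyOfFinitePresentation G.t :=
    (Groth.Agent.Grpsch.Points.s_iff_t G @LocallyOfFinitePresentation).1 inferInstance
  have hGq : QuasiCompact G.t :=
    (Groth.Agent.Grpsch.Points.s_iff_t G @QuasiCompact).1 inferInstance
  have hE := Groth.Agent.Grpsch.GrpdPt.isPtEquiv G
  have hOm : ∀ r, G.s r ∈ O ↔ G.t r ∈ O := fun r =>
    iff_of_eq (congrArg (fun A : G.R.Opens => r ∈ A) hO)
  obtain ⟨U', hU', -, hU's, -⟩ := S1936.result S G
  -- a Cohen-Macaulay point of `O` closed in its fibre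
  obtain ⟨x, hxO, hx⟩ : ∃ x ∈ (U' ⊓ O : G.U.Opens), ClosedInFib G.pU x := by
    apply exists_closedInFib
    obtain ⟨y, hy⟩ := hne
    have h1 : y ∈ G.t '' (G.s ⁻¹ᵁ U' : Set G.R) := by rw [hU's]; trivial
    obtain ⟨r, hr, rfl⟩ := h1
    exact ⟨G.s r, hr, (hOm r).2 hy⟩
  have hCM : Grpd.IsCMAt G.s (G.e x) := by
    have h1 : G.e x ∈ (G.t ⁻¹ᵁ U' : Set G.R) := by
      change G.t (G.e x) ∈ U'
      rw [apply_e_t]
      exact hxO.1
    rw [hU'] at h1
    exact h1
  obtain ⟨Z, u, hZ, -, hft, hfl, hqf, z, rfl⟩ := exists_slice G x hx hCM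
  have hlfp : LocallyOfFinitePresentation (sig G u) := inferInstance
  let I : G.U.Opens := ⟨Set.range (sig G u), (sig G u).isOpenMap.isOpen_range⟩
  have hxI : u z ∈ I := ⟨sec G u z, by rw [← Scheme.Hom.comp_apply, sec_sig]⟩
  obtain ⟨y, hyx, hy⟩ := exists_maxPt (u z)
  have hyI : y ∈ I := hyx.mem_open I.isOpen hxI
  have hyO : y ∈ O := hyx.mem_open O.isOpen hxO.2
  have hZc : CompactSpace Z := inferInstance
  have hNU : IsNoetherian G.U := {}
  have hsn : QuasiCompact u := inferInstance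
  have hN : IsNoetherian (arr G u) := by
    have h1 : IsLocallyNoetherian (arr G u) :=
      LocallyOfFiniteType.isLocallyNoetherian (sig G u)
    have h2 : CompactSpace (arr G u) := by
      have : QuasiCompact (pullback.snd G.t u) := inferInstance
      exact QuasiCompact.compactSpace_of_compactSpace (pullback.snd G.t u)
    exact {}
  obtain ⟨V₀, hyV₀, hV₀⟩ := FinNear.exists_isFinite_nhd (sig G u) y hy
  let V₁ : G.U.Opens := V₀ ⊓ (I ⊓ O)
  have hV₁ : IsFinite (sig G u ∣_ V₁) := isFinite_morphismRestrict_of_le _ inf_le_left hV₀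
  obtain ⟨W, hW⟩ := exists_satur G V₁
  refine ⟨W, Z, u, ?_, ?_, preimage_satur G V₁ W hW, hZ, hft, hfl,
    isFinite_satur G u V₁ W hV₁ hW, ?_⟩
  · intro w hw
    have hw' : w ∈ (W : Set G.U) := hw
    rw [hW] at hw'
    obtain ⟨r, hr, rfl⟩ := hw'
    exact (hOm r).2 hr.2.2
  · refine ⟨y, ?_⟩
    rw [hW]
    exact ⟨G.e y, by
      change G.t (G.e y) ∈ V₁
      rw [apply_e_t]
      exact ⟨hyV₀, hyI, hyO⟩, apply_e_s G y⟩
  · intro w hw
    rw [hW] at hw
    obtain ⟨r, hr, rfl⟩ := hw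
    have h1 := Scheme.image_preimage_eq_of_isPullback (isPullback_fst G u) Set.univ
    obtain ⟨v, hv⟩ : G.t r ∈ Set.range (sig G u) := hr.2.1
    have h2 : r ∈ Set.range (pullback.snd (sig G u) G.t) := by
      obtain ⟨n, hn1, hn2⟩ := Scheme.Pullback.exists_preimage_pullback v r hv
      exact ⟨n, hn2⟩
    obtain ⟨n, rfl⟩ := h2
    refine ⟨trans G u n, ?_⟩
    rw [← Scheme.Hom.comp_apply, trans_sig, Scheme.Hom.comp_apply]

end Groth.Agent.GrpQ.H769.OpenSlice
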