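import Groth.Agent.GrpQ.H769.Sig
import Groth.Agent.GrpQ.H769.IsolFib
import Groth.Agent.Sga3C.QFlatOpen
import Groth.Agent.Sga3C.QStalkKer
import Groth.Agent.Sga3C.QSliceAlg
import Mathlib.AlgebraicGeometry.Morphisms.QuasiFinite

/-!
# Flat and quasi-finite slices of a groupoid scheme

Let `G` be a groupoid scheme over a locally Noetherian scheme `S`, with `s` flat of finite type, `U`
locally of finite type over `S`, and `j` locally quasi-finite.  If `x` is closed in its `S`-fibre and
`s` is Cohen-Macaulay at `e x`, there is an affine `u : Z ⟶ U` through `x` such that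
`sig u : R ×_{t,U} Z ⟶ U` is flat and locally quasi-finite.
-/

set_option autoImplicit false

universe u

open CategoryTheory Limits AlgebraicGeometry

namespace Groth.Agent.GrpQ.H769.Slice

open Sig IsolFib Groth.Agent.Flat2D.PbStalk IsLocalRing

theorem apply_fromSpecStalk_eq_iff {X Y : Scheme.{u}} (f : X ⟶ Y) (x : X)
    (P : Spec (X.presheaf.stalk x)) :
    f (X.fromSpecStalk x P) = f x ↔
      (maximalIdeal (Y.presheaf.stalk (f x))).map (f.stalkMap x).hom ≤ P.asIdeal := by
  have h1 : f (X.fromSpecStalk x P) = Y.fromSpecStalk (f x) (Spec.map (f.stalkMap x) P) := by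
    rw [← Scheme.Hom.comp_apply, ← Scheme.Hom.comp_apply, Scheme.SpecMap_stalkMap_fromSpecStalk]
  have h2 : Y.fromSpecStalk (f x) (closedPoint _) = f x := Scheme.fromSpecStalk_closedPoint
  rw [h1, Ideal.map_le_iff_le_comap]
  constructor
  · intro h
    have h3 : Spec.map (f.stalkMap x) P = closedPoint (Y.presheaf.stalk (f x)) :=
      (Y.fromSpecStalk (f x)).isEmbedding.injective (h.trans h2.symm)
    exact (congrArg PrimeSpectrum.asIdeal h3).ge
  · intro h
    have h3 : Spec.map (f.stalkMap x) P = closedPoint (Y.presheaf.stalk (f x)) := by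
      apply PrimeSpectrum.ext
      exact le_antisymm (le_maximalIdeal (Spec.map (f.stalkMap x) P).isPrime.ne_top) h
    rw [h3]
    exact h2

theorem fromSpecStalk_specializes (X : Scheme.{u}) (x : X) (P : Spec (X.presheaf.stalk x)) :
    X.fromSpecStalk x P ⤳ x := by
  have : X.fromSpecStalk x P ∈ Set.range (X.fromSpecStalk x) := ⟨P, rfl⟩
  rw [Scheme.range_fromSpecStalk] at this
  exact this

theorem exists_fromSpecStalk_eq (X : Scheme.{u}) {x' x : X} (h : x' ⤳ x) :
    ∃ P : Spec (X.presheaf.stalk x), X.fromSpecStalk x P = x' := by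
  have : x' ∈ Set.range (X.fromSpecStalk x) := by
    rw [Scheme.range_fromSpecStalk]
    exact h
  exact this

theorem eq_maximalIdeal_of_fromSpecStalk_eq (X : Scheme.{u}) (x : X)
    (P : Spec (X.presheaf.stalk x)) (h : X.fromSpecStalk x P = x) :
    P.asIdeal = maximalIdeal (X.presheaf.stalk x) := by
  have h2 : X.fromSpecStalk x (closedPoint _) = x := Scheme.fromSpecStalk_closedPoint
  exact congrArg PrimeSpectrum.asIdeal ((X.fromSpecStalk x).isEmbedding.injective (h.trans h2.symm))

/-- Flatness of a composite with the quotient by the kernel. -/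
theorem flat_comp_of_ker {R S : Type u} [CommRing R] [CommRing S] [Algebra R S] {B : Type u}
    [CommRing B] (π : S →+* B) (hπ : Function.Surjective π) (I : Ideal S) (hI : RingHom.ker π = I)
    [Module.Flat R (S ⧸ I)] : (π.comp (algebraMap R S)).Flat := by
  subst hI
  let e : (S ⧸ RingHom.ker π) ≃+* B := RingHom.quotientKerEquivOfSurjective hπ
  have h1 : π.comp (algebraMap R S) = e.toRingHom.comp (algebraMap R (S ⧸ RingHom.ker π)) := by
    ext r
    rfl
  rw [h1]
  refine RingHom.Flat.comp ?_ (RingHom.Flat.of_bijective e.bijective)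
  rw [RingHom.flat_algebraMap_iff]
  infer_instance

variable {S : Scheme.{u}} (G : Grpd.GroupoidScheme S)

lemma apply_e_s (x : G.U) : G.s (G.e x) = x := by
  rw [← Scheme.Hom.comp_apply, G.e_s]; rfl

lemma apply_e_t (x : G.U) : G.t (G.e x) = x := by
  rw [← Scheme.Hom.comp_apply, G.e_t]; rfl

instance locallyOfFiniteType_sig {Z : Scheme.{u}} (u : Z ⟶ G.U) [LocallyOfFiniteType G.s]
    [LocallyOfFiniteType u] : LocallyOfFiniteType (sig G u) := by
  unfold sig; infer_instance

/-- The slice at a Cohen-Macaulay point closed in its `S`-fibre. -/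
theorem exists_slice_local [IsLocallyNoetherian S] [Flat G.s] [LocallyOfFiniteType G.s]
    [LocallyOfFiniteType G.pU] [LocallyQuasiFinite G.j] [LocallyOfFiniteType G.j]
    (x : G.U) (hx : ClosedInFib G.pU x) (hCM : Grpd.IsCMAt G.s (G.e x)) :
    ∃ (Z : Scheme.{u}) (u : Z ⟶ G.U) (z : Z), IsAffine Z ∧ IsPreimmersion u ∧
      LocallyOfFiniteType u ∧ u z = x ∧
      ((sig G u).stalkMap (sec G u z)).hom.Flat ∧ (sig G u).QuasiFiniteAt (sec G u z) := by
  let ξ : G.R := G.e x
  have ha : G.s ξ = x := apply_e_s G x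
  have hb : G.t ξ = x := apply_e_t G x
  have hlG : IsLocallyNoetherian G.U := LocallyOfFiniteType.isLocallyNoetherian G.pU
  have hlR : IsLocallyNoetherian G.R := LocallyOfFiniteType.isLocallyNoetherian G.s
  let R := G.U.presheaf.stalk (G.s ξ)
  let T := G.U.presheaf.stalk (G.t ξ)
  let O := G.R.presheaf.stalk ξ
  let q : T →+* O := (G.t.stalkMap ξ).hom
  let : Algebra R O := (G.s.stalkMap ξ).hom.toAlgebra
  have : IsLocalHom (algebraMap R O) := inferInstanceAs (IsLocalHom (G.s.stalkMap ξ).hom)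
  have : Module.Flat R O := Flat.stalkMap G.s ξ
  have hCM : LocCoh.IsCohenMacaulayLocalRing (O ⧸ (maximalIdeal R).map (algebraMap R O)) := hCM.2
  have hprim : ∀ P : Ideal O, P.IsPrime → (maximalIdeal R).map (algebraMap R O) ≤ P →
      (maximalIdeal T).map q ≤ P → P = maximalIdeal O := by
    intro P hP h1 h2
    have h1' := (apply_fromSpecStalk_eq_iff G.s ξ ⟨P, hP⟩).2 h1
    have h2' := (apply_fromSpecStalk_eq_iff G.t ξ ⟨P, hP⟩).2 h2
    have h3 := eq_of_specializes_of_j G _ ξ
      (fromSpecStalk_specializes _ ξ ⟨P, hP⟩) (by rw [hb]; exact hx) h2' h1'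
    exact eq_maximalIdeal_of_fromSpecStalk_eq _ ξ ⟨P, hP⟩ h3
  obtain ⟨fs, hfs, hflat, hmax⟩ := Sga3C.QSliceAlg.exists_slice (R := R) (maximalIdeal T) O q
    (fun t ht => by
      have := (fiberIdeal_le_maximalIdeal G.t ξ)
      exact this (Ideal.mem_map_of_mem _ ht)) hprim hCM
  -- the slice
  let K : Ideal T := Ideal.ofList fs
  have hK : K ≤ maximalIdeal T := Ideal.span_le.mpr fun r hr => hfs r hr
  obtain ⟨Z, h, z, hz, hZaff, hj, hjft, hker⟩ :=
    Sga3C.QStalkKer.exists_subscheme_of_ideal G.U (G.t ξ) K hK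
  have hhz : h z = x := hz.trans hb
  let i : arr G h ⟶ G.R := pullback.fst G.t h
  have H : IsPullback i (pullback.snd G.t h) G.t h := IsPullback.of_hasPullback _ _
  have hi : IsPreimmersion i := MorphismProperty.of_isPullback H.flip inferInstance
  have hiz : i (sec G h z) = ξ := by
    rw [← Scheme.Hom.comp_apply, sec_fst, Scheme.Hom.comp_apply, hhz]
  have hsnd : pullback.snd G.t h (sec G h z) = z := by
    rw [← Scheme.Hom.comp_apply, sec_snd]; rfl
  have hker2 : RingHom.ker (stalkTo i (sec G h z) hiz).hom = K.map q := by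
    rw [Sga3C.QStalkKer.ker_stalkTo_of_isPullback H (sec G h z) hiz hsnd hz, hker]
  have hsurj : Function.Surjective (stalkTo i (sec G h z) hiz).hom := stalkTo_surjective i _ hiz
  have hsigz : sig G h (sec G h z) = x := by
    rw [← Scheme.Hom.comp_apply, sec_sig, hhz]
  refine ⟨Z, h, z, hZaff, hj, hjft, hhz, ?_, ?_⟩
  · rw [← Flat2D.FlatAtPt.flat_fromSpecStalk_comp_iff]
    change Flat ((arr G h).fromSpecStalk (sec G h z) ≫ i ≫ G.s)
    rw [← Category.assoc,
      ← SpecMap_stalkTo i (sec G h z) hiz, Category.assoc, ← Scheme.SpecMap_stalkMap_fromSpecStalk,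
      ← Category.assoc, ← Spec.map_comp]
    have h1 : Flat (Spec.map (G.s.stalkMap ξ ≫ stalkTo i (sec G h z) hiz)) := by
      rw [Flat.SpecMap_iff]
      exact flat_comp_of_ker (R := R) (stalkTo i (sec G h z) hiz).hom hsurj _ hker2
    infer_instance
  · apply quasiFiniteAt_of_isolated
    · -- closedness in the fibre
      intro v' hv' hsv
      rw [hsigz] at hsv
      apply i.isEmbedding.injective
      have h1 : ξ ⤳ i v' := by
        rw [← hiz]
        exact hv'.map i.continuous
      have h2 : G.s (i v') = x := hsv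
      have h3 : G.t (i v') = x := by
        apply hx
        · have := h1.map G.t.continuous
          rwa [hb] at this
        · have e1 : ∀ r, G.pU (G.t r) = G.pU (G.s r) := by
            intro r
            rw [← Scheme.Hom.comp_apply, ← Scheme.Hom.comp_apply, G.t_over, G.s_over]
          rw [e1, h2]
      rw [hiz]
      exact (eq_of_specializes_of_j G ξ (i v') h1 (by rw [h3]; exact hx) (by rw [h3, hb])
        (by rw [h2, ha])).symm
    · intro p' hp' hpp
      rw [hsigz] at hpp
      obtain ⟨P', rfl⟩ := exists_fromSpecStalk_eq _ hp'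
      let P : Spec O := Spec.map (stalkTo i (sec G h z) hiz) P'
      have h1 : G.R.fromSpecStalk ξ P = i ((arr G h).fromSpecStalk (sec G h z) P') := by
        rw [← Scheme.Hom.comp_apply, SpecMap_stalkTo, Scheme.Hom.comp_apply]
      have h2 : (maximalIdeal R).map (algebraMap R O) ≤ P.asIdeal := by
        apply (apply_fromSpecStalk_eq_iff G.s ξ P).1
        rw [h1, ha]
        exact hpp
      have h3 : K.map q ≤ P.asIdeal := by
        rw [← hker2]
        exact Ideal.comap_mono (bot_le : ⊥ ≤ P'.asIdeal)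
      have h4 := hmax P.asIdeal P.isPrime h2 h3
      have h5 : P = closedPoint O := PrimeSpectrum.ext h4
      apply i.isEmbedding.injective
      rw [← h1, h5, hiz]
      exact Scheme.fromSpecStalk_closedPoint

/-- Flat and quasi-finite slices through Cohen-Macaulay points closed in their `S`-fibre. -/
theorem exists_slice [IsLocallyNoetherian S] [Flat G.s] [LocallyOfFiniteType G.s]
    [LocallyOfFiniteType G.pU] [LocallyQuasiFinite G.j] [LocallyOfFiniteType G.j]
    (x : G.U) (hx : ClosedInFib G.pU x) (hCM : Grpd.IsCMAt G.s (G.e x)) :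
    ∃ (Z : Scheme.{u}) (u : Z ⟶ G.U), IsAffine Z ∧ IsPreimmersion u ∧
      LocallyOfFiniteType u ∧ Flat (sig G u) ∧ LocallyQuasiFinite (sig G u) ∧ x ∈ Set.range u := by
  obtain ⟨Z₀, u₀, z₀, -, hpre, hft, hz₀, hfl, hqf⟩ := exists_slice_local G x hx hCM
  have hlG : IsLocallyNoetherian G.U := LocallyOfFiniteType.isLocallyNoetherian G.pU
  have hGt : Flat G.t := (Groth.Agent.Grpsch.Points.s_iff_t G @Flat).1 inferInstance
  let f := sig G u₀
  let W₁ : (arr G u₀).Opens := ⟨{p | (f.stalkMap p).hom.Flat}, Sga3C.QFlatOpen.isOpen_flatLocus f⟩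
  let N : Z₀.Opens := (sec G u₀) ⁻¹ᵁ (W₁ ⊓ f.quasiFiniteLocus)
  have hzN : z₀ ∈ N := ⟨hfl, hqf⟩
  obtain ⟨V, hV, hzV, hVN⟩ := exists_isAffineOpen_mem_and_subset hzN
  let j : (V : Scheme.{u}) ⟶ Z₀ := V.ι
  let jj : arr G (j ≫ u₀) ⟶ arr G u₀ := pullback.lift (pullback.fst _ _)
    (pullback.snd _ _ ≫ j) (by rw [pullback.condition, Category.assoc])
  have hjj1 : jj ≫ pullback.fst G.t u₀ = pullback.fst G.t (j ≫ u₀) := pullback.lift_fst _ _ _
  have hjj2 : jj ≫ pullback.snd G.t u₀ = pullback.snd G.t (j ≫ u₀) ≫ j := pullback.lift_snd _ _ _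
  have Hjj : IsPullback jj (pullback.snd G.t (j ≫ u₀)) (pullback.snd G.t u₀) j := by
    refine IsPullback.of_right ?_ hjj2 (IsPullback.of_hasPullback G.t u₀)
    rw [hjj1]
    exact IsPullback.of_hasPullback _ _
  have hjjo : IsOpenImmersion jj := MorphismProperty.of_isPullback Hjj.flip inferInstance
  have hfac : sig G (j ≫ u₀) = jj ≫ f := by
    change pullback.fst G.t (j ≫ u₀) ≫ G.s = jj ≫ pullback.fst G.t u₀ ≫ G.s
    rw [reassoc_of% hjj1]
  have hsec : ∀ z : (V : Scheme.{u}), jj (sec G (j ≫ u₀) z) = sec G u₀ (j z) := by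
    intro z
    have e1 : sec G (j ≫ u₀) ≫ jj = j ≫ sec G u₀ := by
      apply pullback.hom_ext
      · rw [Category.assoc, hjj1, sec_fst, Category.assoc, Category.assoc, sec_fst]
      · rw [Category.assoc, hjj2, sec_snd_assoc, Category.assoc, sec_snd, Category.comp_id]
    rw [← Scheme.Hom.comp_apply, ← Scheme.Hom.comp_apply, e1]
  have hmem : ∀ z : (V : Scheme.{u}), j z ∈ N := fun z => hVN (V.ι_apply z ▸ z.2)
  refine ⟨V, j ≫ u₀, hV, inferInstance, inferInstance, ?_, ?_, ?_⟩
  · apply flat_sig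
    intro z
    rw [hfac]
    refine Flat2D.FlatAtPt.flat_stalkMap_comp _ _ _ (Flat.stalkMap _ _) ?_
    exact Flat2D.FlatAtPt.flat_stalkMap_congr f (hsec z).symm (hmem z).1
  · apply locallyQuasiFinite_sig
    intro z
    rw [hfac, Scheme.Hom.quasiFiniteAt_comp_iff_of_isOpenImmersion]
    have h1 : f.QuasiFiniteAt (sec G u₀ (j z)) := (hmem z).2
    rw [← hsec z] at h1
    exact h1
  · exact ⟨⟨z₀, hzV⟩, hz₀⟩

end Groth.Agent.GrpQ.H769.Slice
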